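import Groth.Agent.S4994
import Groth.Agent.Unram17LimLib.Basic

/-!
# Differentially smooth morphisms in limits of schemes
-/

set_option autoImplicit false
universe u

open CategoryTheory CategoryTheory.Limits AlgebraicGeometry TopologicalSpace

noncomputable section

namespace DiffSmLimLib

open RichLib.LimBC Unram17LimLib

variable {X₀ S₀ : Scheme.{u}} (f₀ : X₀ ⟶ S₀)

/-- The section induced by the diagonal. -/
def sec {T : Scheme.{u}} (q : T ⟶ X₀) : T ⟶ pullback (pullback.snd f₀ f₀) q :=
  pullback.lift (q ≫ pullback.diagonal f₀) (𝟙 T)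
    (by rw [Category.assoc, pullback.diagonal_snd, Category.comp_id, Category.id_comp])

/-- The points at which a base change is differentially smooth. -/
def Good {T : Scheme.{u}} (q : T ⟶ X₀) : Set T :=
  {t | sec f₀ q t ∈ locus @Smooth (pullback.snd (pullback.snd f₀ f₀) q)}

theorem isOpen_good {T : Scheme.{u}} (q : T ⟶ X₀) : IsOpen (Good f₀ q) :=
  (isOpen_locus _ _).preimage (sec f₀ q).continuous

theorem mem_good_of_map {T T' : Scheme.{u}} (q : T ⟶ X₀) (q' : T' ⟶ X₀) (a : T ⟶ T') (ha : a ≫ q' = q) (t : T)
    (h : a t ∈ Good f₀ q') : t ∈ Good f₀ q := by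
  let g := pullback.snd f₀ f₀
  let m : pullback g q ⟶ pullback g q' := pullback.lift (pullback.fst g q) (pullback.snd g q ≫ a)
    (by rw [Category.assoc, ha]; exact pullback.condition)
  have sq : IsPullback m (pullback.snd g q) (pullback.snd g q') a :=
    IsPullback.of_right (by
      rw [pullback.lift_fst, ha]
      exact IsPullback.of_hasPullback _ _) (pullback.lift_snd _ _ _) (IsPullback.of_hasPullback _ _)
  have hm : sec f₀ q ≫ m = a ≫ sec f₀ q' := by
    apply pullback.hom_ext
    · rw [Category.assoc, pullback.lift_fst, Category.assoc, sec, sec, pullback.lift_fst, pullback.lift_fst,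
        ← Category.assoc, ha]
    · rw [Category.assoc, pullback.lift_snd, Category.assoc, sec, sec, pullback.lift_snd, pullback.lift_snd_assoc,
        Category.id_comp, Category.comp_id]
  refine mem_locus_baseChange @Smooth sq ?_
  rw [← Scheme.Hom.comp_apply, hm, Scheme.Hom.comp_apply]
  exact h

theorem quasi_diagonal_iff_good [LocallyOfFinitePresentation f₀] {T S : Scheme.{u}} (f : T ⟶ S) (q : T ⟶ X₀)
    (p : S ⟶ S₀) (h : IsPullback q f f₀ p) :
    RegImm.IsRegularImmersion RegImm.Kind.quasi (pullback.diagonal f) ↔ ∀ t, t ∈ Good f₀ q := by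
  haveI : LocallyOfFinitePresentation f := MorphismProperty.of_isPullback h inferInstance
  let g := pullback.snd f₀ f₀
  let m : pullback f f ⟶ pullback f₀ f₀ := pullback.lift (pullback.fst f f ≫ q) (pullback.snd f f ≫ q)
    (by rw [Category.assoc, h.w, Category.assoc, h.w, pullback.condition_assoc])
  have sq : IsPullback m (pullback.snd f f) g q :=
    IsPullback.of_right (by
      rw [pullback.lift_fst, h.w]
      exact (IsPullback.of_hasPullback f f).paste_horiz h) (pullback.lift_snd _ _ _) (IsPullback.of_hasPullback _ _)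
  let e := sq.isoPullback
  have he : e.hom ≫ pullback.snd g q = pullback.snd f f := sq.isoPullback_hom_snd
  have hd : pullback.diagonal f ≫ e.hom = sec f₀ q := by
    apply pullback.hom_ext
    · rw [Category.assoc, sq.isoPullback_hom_fst, sec, pullback.lift_fst]
      apply pullback.hom_ext
      · rw [Category.assoc, pullback.lift_fst, pullback.diagonal_fst_assoc, Category.assoc, pullback.diagonal_fst,
          Category.comp_id]
      · rw [Category.assoc, pullback.lift_snd, pullback.diagonal_snd_assoc, Category.assoc, pullback.diagonal_snd,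
          Category.comp_id]
    · rw [Category.assoc, he, sec, pullback.lift_snd, pullback.diagonal_snd]
  rw [Groth.Agent.S4994.result f]
  refine forall_congr' fun t => ?_
  refine (mem_locus_smooth_iff (pullback.snd f f) _).symm.trans ?_
  haveI : MorphismProperty.RespectsIso (@Smooth : MorphismProperty Scheme.{u}) := MorphismProperty.IsStableUnderBaseChange.respectsIso
  have h1 := mem_locus_iso_comp @Smooth e (pullback.snd g q) (pullback.diagonal f t)
  rw [he, ← Scheme.Hom.comp_apply, hd] at h1
  exact h1

variable {I : Type u} [SmallCategory I] [IsCofiltered I] (B : Sys I X₀)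

theorem exists_stage_good [LocallyOfFinitePresentation f₀] [CompactSpace X₀] (h : ∀ t, t ∈ Good f₀ B.s) :
    ∃ k, ∀ t, t ∈ Good f₀ (B.t k) := by
  let g := pullback.snd f₀ f₀
  have hn : ∀ t : ↥B.c.pt, ∃ i, B.c.π.app i t ∈ Good f₀ (B.t i) := fun t => by
    obtain ⟨i, hi⟩ := exists_stage_smooth B g (sec f₀ B.s t) (h t)
    refine ⟨i, ?_⟩
    have e : sec f₀ B.s ≫ pbπ B g i = B.c.π.app i ≫ sec f₀ (B.t i) := by
      apply pullback.hom_ext
      · rw [Category.assoc, pbπ_fst, Category.assoc, sec, sec, pullback.lift_fst, pullback.lift_fst,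
          ← Category.assoc, B.hs i]
      · rw [Category.assoc, pbπ_snd, Category.assoc, sec, sec, pullback.lift_snd, pullback.lift_snd_assoc,
          Category.id_comp, Category.comp_id]
    show sec f₀ (B.t i) (B.c.π.app i t) ∈ locus @Smooth (pullback.snd g (B.t i))
    rw [← Scheme.Hom.comp_apply, ← e, Scheme.Hom.comp_apply]
    exact hi
  choose i hi using hn
  let O : ∀ j, (B.D.obj j).Opens := fun j => ⟨Good f₀ (B.t j), isOpen_good f₀ _⟩
  haveI : CompactSpace ↥B.c.pt := by
    haveI : IsAffineHom B.s := B.affine_s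
    exact QuasiCompact.compactSpace_of_compactSpace B.s
  obtain ⟨T, hT⟩ := isCompact_univ.elim_finite_subcover
    (fun x => (B.c.π.app (i x) ⁻¹' Good f₀ (B.t (i x)) : Set ↥B.c.pt))
    (fun x => (isOpen_good _ _).preimage (B.c.π.app (i x)).continuous)
    fun x _ => Set.mem_iUnion.mpr ⟨x, hi x⟩
  classical
  obtain ⟨j, hj⟩ := IsCofiltered.inf_objs_exists (T.image i)
  obtain ⟨k, φ, hk⟩ := exists_map_preimage_eq_top B (i := j) (O j) (by
    refine eq_top_iff.mpr fun x _ => ?_
    obtain ⟨y, hyT, hy⟩ := Set.mem_iUnion₂.mp (hT (Set.mem_univ x))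
    let a := (hj (Finset.mem_image_of_mem i hyT)).some
    show B.c.π.app j x ∈ Good f₀ (B.t j)
    refine mem_good_of_map f₀ _ (B.t (i y)) (B.D.map a) (B.w a) _ ?_
    rw [← Scheme.Hom.comp_apply, B.c.w a]
    exact hy)
  exact ⟨k, fun t => mem_good_of_map f₀ _ (B.t j) (B.D.map φ) (B.w φ) t (hk.ge (Set.mem_univ t))⟩

end DiffSmLimLib
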